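import Groth.Agent.Lefpen.H701.EtChart
import Groth.Agent.Sga5.ProjChart
import Mathlib.RingTheory.RingHom.StandardSmooth
import Mathlib.RingTheory.Localization.Away.Basic
import Mathlib.RingTheory.Localization.AtPrime.Basic

/-!
# Étale charts of projective schemes: algebra

* `exists_approx`: elements of `B_t` are approximated by elements of `B` for the topology of a point;
* `mkChart`: an étale chart from a surjection `k[x_1, …, x_r] → B` and `k[t_1, …, t_n] → B_t` étale;
* `isLocalization_ker`: the localization of `B_t` at a point is the localization of `B`.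
-/

set_option autoImplicit false
universe u

open CategoryTheory AlgebraicGeometry Limits TopologicalSpace Opposite

namespace Groth.Agent.Lefpen.H533.EtChartAlg

open LefPen Groth.Agent.Sga5 Groth.Agent.Lefpen.H701

section Approx

variable {k B R : Type*} [Field k] [CommRing B] [Algebra k B] [CommRing R] [Algebra k R] [Algebra B R]
  [IsScalarTower k B R]

theorem exists_approx (t : B) [IsLocalization.Away t R] (χ : R →ₐ[k] k) (e : ℕ) (a : R) :
    ∃ b : B, a - algebraMap B R b ∈ RingHom.ker χ ^ e := by
  obtain ⟨⟨b0, ⟨_, N, rfl⟩⟩, hb⟩ := IsLocalization.surj (Submonoid.powers t) a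
  simp only at hb
  have hTu : IsUnit (algebraMap B R t) := IsLocalization.Away.algebraMap_isUnit t
  have hc : χ (algebraMap B R t) ≠ 0 := (hTu.map χ).ne_zero
  set c : k := (χ (algebraMap B R t))⁻¹ with hcdef
  let ν0 : B := 1 - algebraMap k B c * t
  have hν : algebraMap B R ν0 ∈ RingHom.ker χ := by
    rw [RingHom.mem_ker]
    simp only [ν0, map_sub, map_one, map_mul, ← IsScalarTower.algebraMap_apply k B R]
    rw [AlgHom.commutes]
    simp only [Algebra.algebraMap_self, RingHom.id_apply]
    rw [hcdef, inv_mul_cancel₀ hc, sub_self]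
  let w0 : B := algebraMap k B c * ∑ l ∈ Finset.range e, ν0 ^ l
  have hw : t * w0 = 1 - ν0 ^ e := by
    have h1 := mul_neg_geom_sum ν0 e
    have h2 : (1 - ν0) = algebraMap k B c * t := by simp [ν0]
    rw [← h1, h2]
    simp only [w0]
    ring
  refine ⟨b0 * w0 ^ N, ?_⟩
  have h3 : a - algebraMap B R (b0 * w0 ^ N) = a * (1 - algebraMap B R (t * w0) ^ N) := by
    rw [map_mul, ← hb]
    simp only [map_mul, map_pow, mul_pow]
    ring
  rw [h3]
  have h4 : (1 : R) - algebraMap B R (t * w0) ∈ RingHom.ker χ ^ e := by
    rw [hw, map_sub, map_one, sub_sub_cancel, map_pow]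
    exact Ideal.pow_mem_pow hν e
  have h5 := mul_neg_geom_sum (algebraMap B R (t * w0)) N
  rw [← h5]
  exact Ideal.mul_mem_left _ _ (Ideal.mul_mem_right _ _ h4)

end Approx

section Chart

variable {k : Type u} [Field k] {r n : ℕ} (j : Fin (r + 1)) {B : Type u} [CommRing B] [Algebra k B]
  (π : MvPolynomial (Fin r) k →ₐ[k] B) (t : B)

/-- The homogeneous coordinates divided by the `j`-th one, on `D(t)`. -/
noncomputable def uu (m : Fin (r + 1)) : Localization.Away t :=
  algebraMap B _ (π (ProjChart.dehom r k j (MvPolynomial.X m)))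

theorem aeval_uu (p : MvPolynomial (Fin (r + 1)) k) :
    MvPolynomial.aeval (uu j π t) p =
      algebraMap B (Localization.Away t) (π (ProjChart.dehom r k j p)) := by
  change ((MvPolynomial.aeval (uu j π t) : MvPolynomial (Fin (r + 1)) k →ₐ[k] Localization.Away t) :
      MvPolynomial (Fin (r + 1)) k →+* Localization.Away t) p =
    ((algebraMap B (Localization.Away t)).comp
      ((π : MvPolynomial (Fin r) k →+* B).comp (ProjChart.dehom r k j))) p
  congr 1
  apply MvPolynomial.ringHom_ext
  · intro a
    simp only [RingHom.coe_coe, MvPolynomial.aeval_C, RingHom.comp_apply, ProjChart.dehom_C]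
    rw [← MvPolynomial.algebraMap_eq, AlgHom.commutes, ← IsScalarTower.algebraMap_apply]
  · intro m
    simp only [RingHom.coe_coe, MvPolynomial.aeval_X, RingHom.comp_apply]
    rfl

theorem dehom_rename (q : MvPolynomial (Fin r) k) :
    ProjChart.dehom r k j (MvPolynomial.rename j.succAbove q) = q := by
  change ((ProjChart.dehom r k j).comp (MvPolynomial.rename j.succAbove :
      MvPolynomial (Fin r) k →ₐ[k] MvPolynomial (Fin (r + 1)) k).toRingHom) q =
    (RingHom.id _) q
  congr 1
  apply MvPolynomial.ringHom_ext
  · intro a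
    simp
  · intro m
    simp

/-- An étale chart from a surjection `k[x_1, …, x_r] → B` and `k[t_1, …, t_n] → B_t` étale. -/
noncomputable def mkChart [IsDomain B] (hπ : Function.Surjective π) (ht : t ≠ 0)
    (g : MvPolynomial (Fin n) k →ₐ[k] Localization.Away t) (hg : g.toRingHom.Etale) :
    EtChart k r n :=
  letI _ : Algebra (MvPolynomial (Fin n) k) (Localization.Away t) := g.toRingHom.toAlgebra
  { R := Localization.Away t
    isDomain := IsLocalization.isDomain_localization
      (powers_le_nonZeroDivisors_of_noZeroDivisors ht)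
    tower := IsScalarTower.of_algebraMap_eq' g.comp_algebraMap.symm
    etale := hg
    j := j
    u := uu j π t
    u_j := by
      rw [uu, ProjChart.dehom_X_self, map_one, map_one]
    dense := fun χ e a => by
      obtain ⟨b, hb⟩ := exists_approx (k := k) t χ e a
      obtain ⟨q, rfl⟩ := hπ b
      refine ⟨MvPolynomial.rename j.succAbove q, ?_⟩
      rw [aeval_uu, dehom_rename]
      exact hb }

end Chart

section Loc

variable {k B R O : Type*} [Field k] [CommRing B] [Algebra k B] [CommRing R] [Algebra k R]
  [Algebra B R] [IsScalarTower k B R] [CommRing O] [Algebra B O]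

/-- The localization of `B` at a prime `p` not containing `t` is the localization of `B_t` at the
corresponding prime. -/
theorem isLocalization_ker (t : B) [IsLocalization.Away t R] (p : Ideal B) [p.IsPrime]
    [IsLocalization.AtPrime O p] (q : Ideal R) [q.IsPrime] (hq : q.comap (algebraMap B R) = p)
    (g : R →+* O) (hg : g.comp (algebraMap B R) = algebraMap B O) :
    @IsLocalization.AtPrime R _ O _ g.toAlgebra q _ := by
  let _ : Algebra R O := g.toAlgebra
  have : IsScalarTower B R O := IsScalarTower.of_algebraMap_eq' hg.symm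
  have ht : t ∉ p := by
    rw [← hq, Ideal.mem_comap]
    intro h
    exact Ideal.IsPrime.ne_top ‹_› (Ideal.eq_top_of_isUnit_mem _ h
      (IsLocalization.Away.algebraMap_isUnit t))
  have hle : Submonoid.powers t ≤ p.primeCompl := by
    rintro _ ⟨N, rfl⟩
    exact p.primeCompl.pow_mem ht N
  have h1 := IsLocalization.isLocalization_of_submonoid_le R O (Submonoid.powers t) p.primeCompl hle
  refine @IsLocalization.of_le_of_exists_dvd _ _ _ _ _ _ h1 q.primeCompl ?_ ?_
  · rintro _ ⟨b, hb, rfl⟩
    intro h
    apply hb
    change b ∈ p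
    rw [← hq]
    exact h
  · intro x hx
    obtain ⟨⟨b, ⟨_, N, rfl⟩⟩, hb⟩ := IsLocalization.surj (Submonoid.powers t) x
    simp only at hb
    refine ⟨algebraMap B R b, ⟨b, ?_, rfl⟩, ⟨algebraMap B R (t ^ N), hb.symm⟩⟩
    intro h
    have h2 : algebraMap B R b ∈ q := by
      change b ∈ p at h
      rw [← hq] at h
      exact h
    rw [← hb] at h2
    rcases Ideal.IsPrime.mem_or_mem ‹_› h2 with h3 | h3
    · exact hx h3
    · exact hle ⟨N, rfl⟩ (by rw [← hq]; exact h3)

end Loc

end Groth.Agent.Lefpen.H533.EtChartAlg
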