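import Groth.Agent.Lefpen.H533.EtChartAlg
import Groth.Agent.Lefpen.H702.Dict
import Groth.Agent.Lefpen.H708.Geo
import Groth.Agent.Etcore.SmoothRed
import Mathlib.AlgebraicGeometry.Morphisms.Smooth

/-!
# Étale charts of a smooth irreducible closed subscheme of projective space: existence
-/

set_option autoImplicit false
universe u

open CategoryTheory AlgebraicGeometry Limits TopologicalSpace Opposite

namespace Groth.Agent.Lefpen.H533.EtCharts

open LefPen Groth.Agent.Sga5 Groth.Agent.Lefpen.H701 Groth.Agent.Lefpen.H533.EtChartAlg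
open Groth.Agent.Lefpen.H705.HypIdeal Groth.Agent.Lefpen.H705.ChartPoly
open Groth.Agent.Lefpen.H705.SecIdeal Groth.Agent.Lefpen.H705.PointCoord IsLocalRing
open Groth.Agent.Lefpen.H702.AffAlg Groth.Agent.Lefpen.H702.Dict

section

variable {r n : ℕ} {k : Type u} [Field k] {X : Scheme.{u}} (i : X ⟶ CohB1.ProjSpace r k)

/-- The structure of `k`-algebra of a chart ring. -/
@[instance_reducible]
noncomputable def algB (j : Fin (r + 1)) : Algebra k Γ(X, i ⁻¹ᵁ LefPen.chart r k j) :=
  ((chartHom i j).comp MvPolynomial.C).toAlgebra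

attribute [local instance] algB

/-- `chartHom` as a homomorphism of algebras. -/
noncomputable def piB (j : Fin (r + 1)) :
    MvPolynomial (Fin r) k →ₐ[k] Γ(X, i ⁻¹ᵁ LefPen.chart r k j) :=
  { chartHom i j with commutes' := fun _ => rfl }

theorem piB_apply (j : Fin (r + 1)) (p : MvPolynomial (Fin r) k) : piB i j p = chartHom i j p := rfl

theorem algebraMap_algB (j : Fin (r + 1)) (a : k) :
    algebraMap k Γ(X, i ⁻¹ᵁ LefPen.chart r k j) a = chartHom i j (MvPolynomial.C a) := rfl

variable [IsClosedImmersion i] (j : Fin (r + 1)) (t : Γ(X, i ⁻¹ᵁ LefPen.chart r k j))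

/-- The point `x` corresponds to `χ` when the kernel of `χ` restricts to the prime of `x`. -/
theorem nonempty_at [IsDomain Γ(X, i ⁻¹ᵁ LefPen.chart r k j)] (ht : t ≠ 0)
    (g : MvPolynomial (Fin n) k →ₐ[k] Localization.Away t) (hg : g.toRingHom.Etale)
    (x : X) (hx : i x ∈ LefPen.chart r k j) (χ : Localization.Away t →ₐ[k] k)
    (hχ : (RingHom.ker χ).comap (algebraMap Γ(X, i ⁻¹ᵁ LefPen.chart r k j) (Localization.Away t)) =
      ptPrime i j x hx) :
    Nonempty ((mkChart j (piB i j) t (chartHom_surjective i j) ht g hg).At i x χ) := by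
  let B := Γ(X, i ⁻¹ᵁ LefPen.chart r k j)
  let _ := X.presheaf.algebra_section_stalk (⟨x, hx⟩ : i ⁻¹ᵁ LefPen.chart r k j)
  have hloc : IsLocalization.AtPrime (X.presheaf.stalk x) (ptPrime i j x hx) :=
    (isAffineOpen_preimage i j).isLocalization_stalk ⟨x, hx⟩
  have hker : (RingHom.ker χ).IsPrime := RingHom.ker_isPrime _
  have htp : t ∉ ptPrime i j x hx := by
    rw [← hχ, Ideal.mem_comap]
    intro h
    exact Ideal.IsPrime.ne_top hker (Ideal.eq_top_of_isUnit_mem _ h
      (IsLocalization.Away.algebraMap_isUnit t))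
  have hu : IsUnit (algebraMap B (X.presheaf.stalk x) t) :=
    IsLocalization.map_units (X.presheaf.stalk x) (⟨t, htp⟩ : (ptPrime i j x hx).primeCompl)
  let G : Localization.Away t →+* X.presheaf.stalk x := IsLocalization.Away.lift t hu
  have hG : ∀ b : B, G (algebraMap B _ b) = algebraMap B (X.presheaf.stalk x) b :=
    fun b => IsLocalization.Away.lift_eq t hu b
  have hgerm : ∀ p : MvPolynomial (Fin r) k,
      algebraMap B (X.presheaf.stalk x) (chartHom i j p) = coordHom i j x hx p :=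
    fun p => germ_chartHom i j x hx p
  refine ⟨{ hx := hx, g := G, isLoc := ?_, g_algebraMap := ?_, g_fn := ?_ }⟩
  · exact isLocalization_ker t (ptPrime i j x hx) (RingHom.ker χ) hχ G
      (RingHom.ext hG)
  · intro a
    change G (algebraMap k (Localization.Away t) a) = _
    rw [IsScalarTower.algebraMap_apply k B (Localization.Away t), hG, algebraMap_algB, hgerm,
      coordHom_C]
  · intro d H
    change G ((mkChart j (piB i j) t (chartHom_surjective i j) ht g hg).fn H) = _
    rw [EtChart.fn_apply]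
    change G (MvPolynomial.aeval (uu j (piB i j) t) H.1) = _
    rw [aeval_uu, hG, piB_apply, hgerm]
    exact (stalkEqn_eq i j x hx H).symm

/-- A closed point at which `t` does not vanish gives a point of `B_t`. -/
theorem exists_chi [IsAlgClosed k] (x : X) (hxc : IsClosed ({x} : Set X))
    (hx : i x ∈ LefPen.chart r k j) (ht : t ∉ ptPrime i j x hx) :
    ∃ χ : Localization.Away t →ₐ[k] k,
      (RingHom.ker χ).comap (algebraMap Γ(X, i ⁻¹ᵁ LefPen.chart r k j) (Localization.Away t)) =
        ptPrime i j x hx := by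
  obtain ⟨a, -, ha⟩ := exists_isCoords i j x hx hxc
  have hle : RingHom.ker (piB i j).toRingHom ≤
      RingHom.ker (MvPolynomial.aeval a : MvPolynomial (Fin r) k →ₐ[k] k).toRingHom := by
    intro p hp
    have h1 : p ∈ ptIdeal a := by
      rw [← ha, Ideal.mem_comap]
      have h2 : chartHom i j p = 0 := hp
      rw [h2]
      exact Ideal.zero_mem _
    rw [mem_ptIdeal_iff] at h1
    exact (MvPolynomial.aeval_eq_eval a ▸ h1 : _)
  let χB : Γ(X, i ⁻¹ᵁ LefPen.chart r k j) →ₐ[k] k :=
    AlgHom.liftOfSurjective (piB i j) (chartHom_surjective i j) (MvPolynomial.aeval a) hle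
  have hχB : ∀ b, χB b = 0 ↔ b ∈ ptPrime i j x hx := by
    intro b
    obtain ⟨p, rfl⟩ := chartHom_surjective i j b
    have h1 : χB (chartHom i j p) = MvPolynomial.aeval a p :=
      AlgHom.liftOfSurjective_apply (piB i j) (chartHom_surjective i j) (MvPolynomial.aeval a) hle p
    rw [h1, MvPolynomial.aeval_eq_eval]
    change MvPolynomial.eval a p = 0 ↔ _
    rw [← mem_ptIdeal_iff, ← ha, Ideal.mem_comap]
  have hu : ∀ y : Submonoid.powers t, IsUnit (χB y) := by
    rintro ⟨_, N, rfl⟩
    rw [map_pow]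
    exact (IsUnit.mk0 _ fun h => ht ((hχB t).1 h)).pow N
  let χ : Localization.Away t →ₐ[k] k := IsLocalization.liftAlgHom (M := Submonoid.powers t) (f := χB) hu
  refine ⟨χ, ?_⟩
  ext b
  rw [Ideal.mem_comap, RingHom.mem_ker]
  have h2 : χ (algebraMap _ _ b) = χB b := IsLocalization.lift_eq _ b
  rw [h2, hχB]

/-- A point of `B_t` gives a closed point of `X`. -/
theorem exists_closedPoint [LocallyOfFiniteType (i ≫ CohB1.ProjSpace.toSpec r k)] (χ : Localization.Away t →ₐ[k] k) :
    ∃ (x : X) (hx : i x ∈ LefPen.chart r k j), IsClosed ({x} : Set X) ∧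
      (RingHom.ker χ).comap (algebraMap Γ(X, i ⁻¹ᵁ LefPen.chart r k j) (Localization.Away t)) =
        ptPrime i j x hx := by
  have hJ : JacobsonSpace X := LocallyOfFiniteType.jacobsonSpace (i ≫ CohB1.ProjSpace.toSpec r k)
  let B := Γ(X, i ⁻¹ᵁ LefPen.chart r k j)
  let p : Ideal B := (RingHom.ker χ).comap (algebraMap B (Localization.Away t))
  let χB : B →+* k := (χ : Localization.Away t →+* k).comp (algebraMap B (Localization.Away t))
  have hpk : p = RingHom.ker χB := rfl
  have hs : Function.Surjective χB := by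
    intro a
    refine ⟨algebraMap k B a, ?_⟩
    change χ (algebraMap B (Localization.Away t) (algebraMap k B a)) = a
    rw [← IsScalarTower.algebraMap_apply, AlgHom.commutes]
    rfl
  have hpm : p.IsMaximal := hpk ▸ RingHom.ker_isMaximal_of_surjective χB hs
  let y : PrimeSpectrum B := ⟨p, hpm.isPrime⟩
  have hU := isAffineOpen_preimage i j
  have hx : hU.fromSpec y ∈ i ⁻¹ᵁ LefPen.chart r k j := by
    have h1 : hU.fromSpec y ∈ hU.fromSpec.opensRange := ⟨y, rfl⟩
    rwa [hU.opensRange_fromSpec] at h1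
  refine ⟨hU.fromSpec y, hx, ?_, ?_⟩
  · have h1 := (hU.fromSpec.isOpenEmbedding).preimage_closedPoints
    have h2 : (y : Spec Γ(X, i ⁻¹ᵁ LefPen.chart r k j)) ∈
        closedPoints (Spec Γ(X, i ⁻¹ᵁ LefPen.chart r k j)) :=
      (PrimeSpectrum.isClosed_singleton_iff_isMaximal y).2 hpm
    rw [← h1] at h2
    exact h2
  · have h1 : hU.primeIdealOf ⟨hU.fromSpec y, hx⟩ = y := by
      apply hU.fromSpec.isOpenEmbedding.injective
      exact hU.fromSpec_primeIdealOf ⟨hU.fromSpec y, hx⟩
    change p = (hU.primeIdealOf ⟨hU.fromSpec y, hx⟩).asIdeal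
    rw [h1]

end

attribute [local instance] algB in
/-- The chart rings of a smooth scheme are locally standard smooth. -/
theorem exists_finset_etale {r n : ℕ} {k : Type u} [Field k] {X : Scheme.{u}}
    (i : X ⟶ CohB1.ProjSpace r k) [IsClosedImmersion i]
    [SmoothOfRelativeDimension n (i ≫ CohB1.ProjSpace.toSpec r k)] (j : Fin (r + 1)) :
    ∃ s : Finset Γ(X, i ⁻¹ᵁ LefPen.chart r k j),
      Ideal.span (s : Set Γ(X, i ⁻¹ᵁ LefPen.chart r k j)) = ⊤ ∧
      ∀ t ∈ s, ∃ g : MvPolynomial (Fin n) k →ₐ[k] Localization.Away t, g.toRingHom.Etale := by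
  let U := i ⁻¹ᵁ LefPen.chart r k j
  have hloc : RingHom.Locally (RingHom.IsStandardSmoothOfRelativeDimension n)
      (algebraMap k Γ(X, U)) := by
    have h1 := HasRingHomProperty.appLE (@SmoothOfRelativeDimension n)
      (i ≫ CohB1.ProjSpace.toSpec r k) inferInstance ⟨⊤, isAffineOpen_top _⟩
      ⟨U, (isAffineOpen_chart j).preimage i⟩ le_top
    have hL := RingHom.locally_respectsIso
      (RingHom.isStandardSmoothOfRelativeDimension_respectsIso (n := n))
    have h2 := (hL.cancel_left_isIso (Scheme.ΓSpecIso (CommRingCat.of k)).inv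
      ((i ≫ CohB1.ProjSpace.toSpec r k).appLE ⊤ U le_top)).mpr h1
    have h3 : algebraMap k Γ(X, U) = ((i ≫ CohB1.ProjSpace.toSpec r k).appLE ⊤ U le_top).hom.comp
        (Scheme.ΓSpecIso (CommRingCat.of k)).inv.hom := by
      have h4 := Groth.Agent.Lefpen.H708.Geo.coordU_C i j U le_rfl
      rw [← h4]
      ext a
      change chartHom i j (MvPolynomial.C a) = Groth.Agent.Lefpen.H708.Geo.coordU i j U le_rfl (MvPolynomial.C a)
      rw [Groth.Agent.Lefpen.H708.Geo.coordU, Scheme.Hom.appLE_eq_app]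
      rfl
    rw [h3]
    exact h2
  rw [RingHom.locally_iff_finite] at hloc
  obtain ⟨s, hs, hst⟩ := hloc
  refine ⟨s, hs, fun t ht => ?_⟩
  have h1 := hst t ht
  rw [← IsScalarTower.algebraMap_eq k Γ(X, U) (Localization.Away t)] at h1
  have h2 : Algebra.IsStandardSmoothOfRelativeDimension n k (Localization.Away t) := by
    rwa [RingHom.isStandardSmoothOfRelativeDimension_algebraMap] at h1
  exact Algebra.IsStandardSmoothOfRelativeDimension.exists_etale_mvPolynomial n k (Localization.Away t)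

/-- **Étale charts** of a smooth irreducible closed subscheme of projective space. -/
theorem exists_etCharts (k : Type u) [Field k] [IsAlgClosed k] (r n : ℕ) {X : Scheme.{u}}
    (i : X ⟶ CohB1.ProjSpace r k) [IsClosedImmersion i] [IrreducibleSpace X]
    [SmoothOfRelativeDimension n (i ≫ CohB1.ProjSpace.toSpec r k)] :
    ∃ (ι : Type) (_ : Finite ι) (c : ι → EtChart k r n),
      (∀ (x : X), IsClosed ({x} : Set X) → ∀ j, i x ∈ LefPen.chart r k j →
        ∃ (a : ι) (χ : (c a).R →ₐ[k] k), (c a).j = j ∧ Nonempty ((c a).At i x χ)) ∧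
      (∀ (a : ι) (χ : (c a).R →ₐ[k] k), ∃ x : X, IsClosed ({x} : Set X) ∧
        Nonempty ((c a).At i x χ)) := by
  classical
  have hsm : Smooth (i ≫ CohB1.ProjSpace.toSpec r k) := SmoothOfRelativeDimension.smooth n _
  have hred : IsReduced X := Groth.Agent.Etcore.SmoothRed.isReduced_of_smooth
    (i ≫ CohB1.ProjSpace.toSpec r k)
  have hint : IsIntegral X := isIntegral_of_irreducibleSpace_of_isReduced X
  let _ := fun j => algB i j
  choose s hs hg using exists_finset_etale (n := n) i
  have hdom : ∀ (j : Fin (r + 1)) (t : Γ(X, i ⁻¹ᵁ LefPen.chart r k j)), t ≠ 0 →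
      IsDomain Γ(X, i ⁻¹ᵁ LefPen.chart r k j) := by
    intro j t ht
    have h1 : Nonempty (i ⁻¹ᵁ LefPen.chart r k j) := by
      by_contra h
      rw [not_nonempty_iff] at h
      have h2 : i ⁻¹ᵁ LefPen.chart r k j = ⊥ := by
        ext x
        constructor
        · intro hx
          exact (h.false ⟨x, hx⟩).elim
        · intro hx
          exact hx.elim
      have h3 : Subsingleton Γ(X, i ⁻¹ᵁ LefPen.chart r k j) := by
        rw [h2]
        infer_instance
      exact ht (Subsingleton.elim _ _)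
    infer_instance
  let J := Σ j : Fin (r + 1), {t : Γ(X, i ⁻¹ᵁ LefPen.chart r k j) // t ∈ s j ∧ t ≠ 0}
  have hJ : Finite J := by
    have : ∀ j, Finite {t : Γ(X, i ⁻¹ᵁ LefPen.chart r k j) // t ∈ s j ∧ t ≠ 0} := by
      intro j
      exact Set.Finite.to_subtype ((s j).finite_toSet.subset fun t ht => ht.1)
    infer_instance
  obtain ⟨N, ⟨e⟩⟩ := Finite.exists_equiv_fin J
  have := fun a : J => hdom a.1 a.2.1 a.2.2.2
  choose g hg' using hg
  let c' : J → EtChart k r n := fun a =>
    mkChart a.1 (piB i a.1) a.2.1 (chartHom_surjective i a.1) a.2.2.2 (g a.1 a.2.1 a.2.2.1)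
      (hg' a.1 a.2.1 a.2.2.1)
  refine ⟨Fin N, inferInstance, fun m => c' (e.symm m), ?_, ?_⟩
  · intro x hxc j hx
    obtain ⟨t, hts, htp⟩ : ∃ t ∈ s j, t ∉ ptPrime i j x hx := by
      by_contra! h
      have h1 : Ideal.span (s j : Set Γ(X, i ⁻¹ᵁ LefPen.chart r k j)) ≤ ptPrime i j x hx :=
        Ideal.span_le.2 fun t ht => h t ht
      rw [hs] at h1
      exact (isPrime_ptPrime i j x hx).ne_top (top_le_iff.1 h1)
    have ht0 : t ≠ 0 := by
      rintro rfl
      exact htp (Ideal.zero_mem _)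
    obtain ⟨χ, hχ⟩ := exists_chi i j t x hxc hx htp
    have key : ∃ (χ : (c' ⟨j, t, hts, ht0⟩).R →ₐ[k] k), (c' ⟨j, t, hts, ht0⟩).j = j ∧
        Nonempty ((c' ⟨j, t, hts, ht0⟩).At i x χ) :=
      ⟨χ, rfl, @nonempty_at r n k _ X i _ j t (hdom j t ht0) ht0 (g j t hts) (hg' j t hts) x hx χ hχ⟩
    refine ⟨e ⟨j, t, hts, ht0⟩, ?_⟩
    beta_reduce
    rw [e.symm_apply_apply]
    exact key
  · intro m
    beta_reduce
    generalize e.symm m = a
    obtain ⟨j, t, hts, ht0⟩ := a
    intro χ
    obtain ⟨x, hx, hxc, hχ⟩ := exists_closedPoint i j t χ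
    exact ⟨x, hxc, @nonempty_at r n k _ X i _ j t (hdom j t ht0) ht0 (g j t hts) (hg' j t hts) x hx χ hχ⟩

end Groth.Agent.Lefpen.H533.EtCharts
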